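import Mathlib
import Groth.Prelude.Def_SymTen
import Groth.Agent.Lib.Helper6.ZC.Typ
import Groth.Agent.Lib.Helper6.ZC.FreeT

/-!
# Generators of the symmetric tensors: elementary symmetric tensors and symmetrised pure tensors
(helper6)

`sig R n a j` is the `j`-th elementary symmetric tensor of `a`; `ssum n b ν` is the sum of the
pure tensors `b (c 1) ⊗ ⋯ ⊗ b (c n)` over all index maps `c` of type `ν`.  Both are symmetric.
Sums over index maps can be regrouped by type, and `ssum` is transported along injections.
-/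

set_option autoImplicit false
set_option linter.unusedSectionVars false
set_option linter.unusedVariables false
set_option linter.unusedSimpArgs false
set_option linter.style.haveILetI false
set_option linter.overlappingInstances false
set_option maxHeartbeats 800000
set_option synthInstance.maxHeartbeats 400000

universe u
open scoped TensorProduct
open Groth.Agent.Lib.Helper6.ZC

noncomputable section

namespace Groth.Agent.Lib.Helper6.SymGen

variable (R : Type u) [CommRing R] {A : Type u} [CommRing A] [Algebra R A] (n : ℕ)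

/-- the `j`-th elementary symmetric tensor of `a` -/
def sig (a : A) (j : ℕ) : ⨂[R] _ : Fin n, A :=
  ∑ I ∈ (Finset.univ : Finset (Fin n)).powersetCard j,
    PiTensorProduct.tprod R (fun i : Fin n => if i ∈ I then a else (1 : A))

variable (A) in
/-- the subalgebra generated by the elementary symmetric tensors -/
def Csub : Subalgebra R (⨂[R] _ : Fin n, A) :=
  Algebra.adjoin R {t : ⨂[R] _ : Fin n, A | ∃ (a : A) (j : ℕ), t = sig R n a j}

lemma sig_mem_Csub (a : A) (j : ℕ) : sig R n a j ∈ Csub R A n :=
  Algebra.subset_adjoin ⟨a, j, rfl⟩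

/-- the symmetrised pure tensor of type `ν` of the family `b` -/
def ssum {ι : Type} [Fintype ι] [DecidableEq ι] (b : ι → A) (ν : ι →₀ ℕ) : ⨂[R] _ : Fin n, A :=
  ∑ c : Fin n → ι, if typ c = ν then PiTensorProduct.tprod R (fun i => b (c i)) else 0

lemma sig_mem_TS (a : A) (j : ℕ) : sig R n a j ∈ SymTen.TS R A n := by
  rw [SymTen.mem_TS_iff]
  intro τ
  rw [← SymTen.perm_apply, sig, map_sum]
  simp only [SymTen.perm_tprod]
  refine Finset.sum_equiv (Equiv.finsetCongr τ) ?_ ?_
  · intro I
    rw [Finset.mem_powersetCard_univ, Finset.mem_powersetCard_univ, Equiv.finsetCongr_apply,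
      Finset.card_map]
  · intro I _
    congr 1
    funext i
    rw [Equiv.finsetCongr_apply]
    simp only [Finset.mem_map_equiv]

lemma Csub_le_TS : Csub R A n ≤ SymTen.TS R A n := by
  refine Algebra.adjoin_le ?_
  rintro _ ⟨a, j, rfl⟩
  exact sig_mem_TS R n a j

/-- precomposition with a permutation, as a bijection of the set of index maps -/
def compPerm {ι : Type} (τ : Equiv.Perm (Fin n)) : (Fin n → ι) ≃ (Fin n → ι) where
  toFun p := p ∘ τ.symm
  invFun p := p ∘ τ
  left_inv p := by funext i; simp
  right_inv p := by funext i; simp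

lemma ssum_mem_TS {ι : Type} [Fintype ι] [DecidableEq ι] (b : ι → A) (ν : ι →₀ ℕ) :
    ssum R n b ν ∈ SymTen.TS R A n := by
  rw [SymTen.mem_TS_iff]
  intro τ
  rw [← SymTen.perm_apply, ssum, map_sum]
  have hterm : ∀ p : Fin n → ι,
      SymTen.perm R A n τ
        (if typ p = ν then PiTensorProduct.tprod R (fun i => b (p i)) else 0) =
      if typ (compPerm n τ p) = ν then
        PiTensorProduct.tprod R (fun i => b (compPerm n τ p i)) else 0 := by
    intro p
    have : typ (compPerm n τ p) = typ p := typ_comp_perm p τ.symm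
    rw [this]
    split_ifs
    · rw [SymTen.perm_tprod]
      rfl
    · exact map_zero _
  simp only [hterm]
  exact Fintype.sum_equiv (compPerm n τ) _ _ (fun p => rfl)

/-- regrouping a sum over index maps by type -/
lemma sum_group {κ : Type} [Fintype κ] [DecidableEq κ] {M : Type*} [AddCommMonoid M]
    (Q : (κ →₀ ℕ) → Prop) [DecidablePred Q] (𝒯 : Finset (κ →₀ ℕ))
    (h𝒯 : ∀ c : Fin n → κ, typ c ∈ 𝒯) (g : (Fin n → κ) → M) :
    ∑ c, (if Q (typ c) then g c else 0) =
      ∑ ν ∈ 𝒯, if Q ν then ∑ c, (if typ c = ν then g c else 0) else 0 := by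
  have h1 : ∀ ν ∈ 𝒯, (if Q ν then ∑ c, (if typ c = ν then g c else 0) else 0) =
      ∑ c, if typ c = ν then (if Q (typ c) then g c else 0) else 0 := by
    intro ν _
    by_cases hQ : Q ν
    · rw [if_pos hQ]
      refine Finset.sum_congr rfl fun c _ => ?_
      by_cases h1 : typ c = ν
      · rw [if_pos h1, if_pos h1, if_pos (by rw [h1]; exact hQ)]
      · rw [if_neg h1, if_neg h1]
    · rw [if_neg hQ]
      symm
      refine Finset.sum_eq_zero fun c _ => ?_
      by_cases h1 : typ c = ν
      · rw [if_pos h1, if_neg (by rw [h1]; exact hQ)]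
      · rw [if_neg h1]
  rw [Finset.sum_congr rfl h1, Finset.sum_comm]
  refine Finset.sum_congr rfl fun c _ => ?_
  rw [Finset.sum_ite_eq, if_pos (h𝒯 c)]

lemma typ_comp {κ κ' : Type} [DecidableEq κ] [DecidableEq κ'] (f : κ → κ') (c : Fin n → κ) :
    typ (f ∘ c) = Finsupp.mapDomain f (typ c) := by
  rw [typ, typ, Finsupp.mapDomain_finsetSum]
  refine Finset.sum_congr rfl fun l _ => ?_
  rw [Finsupp.mapDomain_single]
  rfl

/-- transport of symmetrised tensors along an injection of index sets -/
lemma ssum_transport {ι κ : Type} [Fintype ι] [DecidableEq ι] [Fintype κ] [DecidableEq κ]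
    (θ : ι → κ) (hθ : Function.Injective θ) (b : ι → A) (b' : κ → A) (hb : ∀ j, b' (θ j) = b j)
    (ν : ι →₀ ℕ) : ssum R n b' (Finsupp.mapDomain θ ν) = ssum R n b ν := by
  rw [ssum, ssum, ← Finset.sum_filter, ← Finset.sum_filter]
  symm
  refine Finset.sum_bij (fun c _ => θ ∘ c) ?_ ?_ ?_ ?_
  · intro c hc
    rw [Finset.mem_filter] at hc ⊢
    refine ⟨Finset.mem_univ _, ?_⟩
    rw [typ_comp, hc.2]
  · intro c _ c' _ h
    funext l
    exact hθ (congrFun h l)
  · intro c' hc'
    rw [Finset.mem_filter] at hc'
    have hval : ∀ l, ∃ j, θ j = c' l := by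
      intro l
      have h1 := mem_support_of_typ_eq n hc'.2 l
      have h2 := Finsupp.mapDomain_support h1
      rw [Finset.mem_image] at h2
      obtain ⟨j, _, hj⟩ := h2
      exact ⟨j, hj⟩
    choose c hc using hval
    have hcc : θ ∘ c = c' := funext hc
    refine ⟨c, ?_, hcc⟩
    rw [Finset.mem_filter]
    refine ⟨Finset.mem_univ _, ?_⟩
    apply Finsupp.mapDomain_injective hθ
    rw [← typ_comp, hcc, hc'.2]
  · intro c _
    congr 1
    funext i
    exact (hb (c i)).symm

end Groth.Agent.Lib.Helper6.SymGen
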