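import Mathlib
import Groth.Prelude.Def_SymTen
import Groth.Agent.Lib.Helper6.SymGen.SG1

/-!
# Generators of the symmetric tensors: the product formula (helper6)

`σ_k(a) · s_μ(b) = ∑ s_ν̃(b ⊕ a·b)`, the sum over the types `ν̃` on the doubled index set which
fold to `μ` and have `k` entries in the second copy.
-/

set_option autoImplicit false
set_option linter.unusedSectionVars false
set_option linter.unusedVariables false
set_option linter.unusedSimpArgs false
set_option linter.style.haveILetI false
set_option linter.overlappingInstances false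
set_option maxHeartbeats 800000
set_option synthInstance.maxHeartbeats 400000

universe u
open scoped TensorProduct
open Groth.Agent.Lib.Helper6.ZC

noncomputable section

namespace Groth.Agent.Lib.Helper6.SymGen

variable (R : Type u) [CommRing R] {A : Type u} [CommRing A] [Algebra R A] (n : ℕ)

/-- a subset of positions and an index map give an index map into the doubled index set -/
def splitEquiv (ι : Type) : (Finset (Fin n) × (Fin n → ι)) ≃ (Fin n → ι ⊕ ι) where
  toFun p := fun i => if i ∈ p.1 then Sum.inr (p.2 i) else Sum.inl (p.2 i)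
  invFun c := (Finset.univ.filter (fun i => (c i).isRight = true), fun i => Sum.elim id id (c i))
  left_inv p := by
    rcases p with ⟨I, c⟩
    refine Prod.ext ?_ ?_
    · ext i
      simp only [Finset.mem_filter, Finset.mem_univ, true_and]
      by_cases h : i ∈ I <;> simp [h]
    · funext i
      by_cases h : i ∈ I <;> simp [h]
  right_inv c := by
    funext i
    simp only [Finset.mem_filter, Finset.mem_univ, true_and]
    rcases h : c i with j | j <;> simp [h]

lemma splitEquiv_apply {ι : Type} (I : Finset (Fin n)) (c : Fin n → ι) (i : Fin n) :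
    splitEquiv n ι (I, c) i = if i ∈ I then Sum.inr (c i) else Sum.inl (c i) := rfl

variable {n}

lemma typ_split_inl_add_inr {ι : Type} [DecidableEq ι] (I : Finset (Fin n)) (c : Fin n → ι)
    (j : ι) :
    typ (splitEquiv n ι (I, c)) (Sum.inl j) + typ (splitEquiv n ι (I, c)) (Sum.inr j) =
      typ c j := by
  have h1 : (Finset.univ.filter fun l => splitEquiv n ι (I, c) l = Sum.inl j) =
      (Finset.univ.filter fun l => c l = j).filter (fun l => ¬ l ∈ I) := by
    ext l
    simp only [Finset.mem_filter, Finset.mem_univ, true_and, splitEquiv_apply]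
    by_cases h : l ∈ I <;> simp [h]
  have h2 : (Finset.univ.filter fun l => splitEquiv n ι (I, c) l = Sum.inr j) =
      (Finset.univ.filter fun l => c l = j).filter (fun l => l ∈ I) := by
    ext l
    simp only [Finset.mem_filter, Finset.mem_univ, true_and, splitEquiv_apply]
    by_cases h : l ∈ I <;> simp [h]
  rw [typ_apply, typ_apply, typ_apply, h1, h2, add_comm]
  exact Finset.card_filter_add_card_filter_not _

lemma sum_typ_split_inr {ι : Type} [Fintype ι] [DecidableEq ι] (I : Finset (Fin n))
    (c : Fin n → ι) :
    ∑ j, typ (splitEquiv n ι (I, c)) (Sum.inr j) = I.card := by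
  have h2 : ∀ j, typ (splitEquiv n ι (I, c)) (Sum.inr j) = (I.filter fun l => c l = j).card := by
    intro j
    rw [typ_apply]
    congr 1
    ext l
    simp only [Finset.mem_filter, Finset.mem_univ, true_and, splitEquiv_apply]
    by_cases h : l ∈ I <;> simp [h]
  simp only [h2]
  symm
  exact Finset.card_eq_sum_card_fiberwise (f := c) (s := I) (t := Finset.univ)
    (fun x _ => Finset.mem_coe.mpr (Finset.mem_univ _))

/-- the condition on a type of the doubled index set: it folds to `μ` and has `k` entries in the
second copy -/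
def Qf {ι : Type} [Fintype ι] (μ : ι →₀ ℕ) (k : ℕ) (ν' : ι ⊕ ι →₀ ℕ) : Prop :=
  (∀ j, ν' (Sum.inl j) + ν' (Sum.inr j) = μ j) ∧ ∑ j, ν' (Sum.inr j) = k

lemma Qf_split_iff {ι : Type} [Fintype ι] [DecidableEq ι] (μ : ι →₀ ℕ) (k : ℕ)
    (I : Finset (Fin n)) (c : Fin n → ι) :
    Qf μ k (typ (splitEquiv n ι (I, c))) ↔ I.card = k ∧ typ c = μ := by
  unfold Qf
  simp only [typ_split_inl_add_inr, sum_typ_split_inr]
  constructor
  · rintro ⟨h1, h2⟩
    exact ⟨h2, Finsupp.ext h1⟩
  · rintro ⟨h1, h2⟩
    exact ⟨fun j => by rw [h2], h1⟩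

variable (n)

/-- the product formula -/
theorem sig_mul_ssum {ι : Type} [Fintype ι] [DecidableEq ι] (a : A) (k : ℕ) (b : ι → A)
    (μ : ι →₀ ℕ) [DecidablePred (Qf μ k)] :
    sig R n a k * ssum R n b μ =
      ∑ c : Fin n → ι ⊕ ι, if Qf μ k (typ c) then
        PiTensorProduct.tprod R (fun i => Sum.elim b (fun j => a * b j) (c i)) else 0 := by
  classical
  have hsig : sig R n a k = ∑ I : Finset (Fin n), if I.card = k then
      PiTensorProduct.tprod R (fun i : Fin n => if i ∈ I then a else (1 : A)) else 0 := by
    rw [sig, ← Finset.sum_filter]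
    congr 1
    ext I
    simp [Finset.mem_powersetCard_univ]
  rw [hsig, ssum, Finset.sum_mul_sum]
  rw [← Fintype.sum_prod_type' (fun (I : Finset (Fin n)) (c : Fin n → ι) =>
    (if I.card = k then
      PiTensorProduct.tprod R (fun i : Fin n => if i ∈ I then a else (1 : A)) else 0) *
    (if typ c = μ then PiTensorProduct.tprod R (fun i => b (c i)) else 0))]
  refine Fintype.sum_equiv (splitEquiv n ι) _ _ ?_
  rintro ⟨I, c⟩
  dsimp only
  have hQ := Qf_split_iff μ k I c
  by_cases h1 : I.card = k
  · by_cases h2 : typ c = μ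
    · rw [if_pos h1, if_pos h2, if_pos (hQ.mpr ⟨h1, h2⟩), PiTensorProduct.tprod_mul_tprod]
      congr 1
      funext i
      rw [Pi.mul_apply, splitEquiv_apply]
      by_cases h : i ∈ I <;> simp [h]
    · rw [if_neg h2, mul_zero, if_neg (fun h => h2 (hQ.mp h).2)]
  · rw [if_neg h1, zero_mul, if_neg (fun h => h1 (hQ.mp h).1)]

end Groth.Agent.Lib.Helper6.SymGen
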