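import Mathlib
import Groth.Prelude.Def_SymTen
import Groth.Agent.Lib.Helper6.SymGen.SG2

/-!
# Generators of the symmetric tensors: the symmetrised pure tensors are polynomials in the
elementary symmetric tensors (helper6)

Induction on the weight (the number of factors different from `1`), using the product formula.
-/

set_option autoImplicit false
set_option linter.unusedSectionVars false
set_option linter.unusedVariables false
set_option linter.unusedSimpArgs false
set_option linter.style.haveILetI false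
set_option linter.overlappingInstances false
set_option maxHeartbeats 800000
set_option synthInstance.maxHeartbeats 400000

universe u
open scoped TensorProduct
open Groth.Agent.Lib.Helper6.ZC

noncomputable section

namespace Groth.Agent.Lib.Helper6.SymGen

variable (R : Type u) [CommRing R] {A : Type u} [CommRing A] [Algebra R A] (n : ℕ)

/-- base case: all the mass on the unit index -/
lemma ssum_mem_of_unit {ι : Type} [Fintype ι] [DecidableEq ι] (b : ι → A) (o : ι) (hbo : b o = 1)
    (ν : ι →₀ ℕ) (h0 : ∀ j, j ≠ o → ν j = 0) : ssum R n b ν ∈ Csub R A n := by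
  rw [ssum]
  refine Subalgebra.sum_mem _ fun c _ => ?_
  split_ifs with h
  · have hc : ∀ i, c i = o := by
      intro i
      by_contra hne
      have h1 := mem_support_of_typ_eq n h i
      rw [Finsupp.mem_support_iff] at h1
      exact h1 (h0 _ hne)
    have h2 : (fun i => b (c i)) = (1 : Fin n → A) := by
      funext i
      rw [hc i, hbo]
      rfl
    have h3 : PiTensorProduct.tprod R (1 : Fin n → A) = 1 := rfl
    rw [h2, h3]
    exact one_mem _
  · exact zero_mem _

section Theta

variable {ι : Type} [DecidableEq ι] (o j₀ : ι)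

/-- the injection moving the index `j₀` to the second copy of the unit index -/
def θmap : ι → ι ⊕ ι := fun j => if j = j₀ then Sum.inr o else Sum.inl j

lemma θmap_injective : Function.Injective (θmap o j₀) := by
  intro x y h
  unfold θmap at h
  by_cases hx : x = j₀
  · by_cases hy : y = j₀
    · rw [hx, hy]
    · rw [if_pos hx, if_neg hy] at h
      exact absurd h (by simp)
  · by_cases hy : y = j₀
    · rw [if_neg hx, if_pos hy] at h
      exact absurd h (by simp)
    · rw [if_neg hx, if_neg hy] at h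
      exact Sum.inl_injective h

lemma star_inl (ν : ι →₀ ℕ) (j : ι) :
    Finsupp.mapDomain (θmap o j₀) ν (Sum.inl j) = if j = j₀ then 0 else ν j := by
  by_cases h : j = j₀
  · rw [if_pos h]
    apply Finsupp.mapDomain_of_notMem_range
    rintro ⟨x, hx⟩
    unfold θmap at hx
    by_cases hx' : x = j₀
    · rw [if_pos hx'] at hx
      exact absurd hx (by simp)
    · rw [if_neg hx'] at hx
      exact hx' ((Sum.inl_injective hx).trans h)
  · rw [if_neg h]
    have h1 : Sum.inl j = θmap o j₀ j := by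
      unfold θmap
      rw [if_neg h]
    rw [h1, Finsupp.mapDomain_apply (θmap_injective o j₀)]

lemma star_inr (ν : ι →₀ ℕ) (j : ι) :
    Finsupp.mapDomain (θmap o j₀) ν (Sum.inr j) = if j = o then ν j₀ else 0 := by
  by_cases h : j = o
  · rw [if_pos h, h]
    have h1 : Sum.inr o = θmap o j₀ j₀ := by
      unfold θmap
      rw [if_pos rfl]
    rw [h1, Finsupp.mapDomain_apply (θmap_injective o j₀)]
  · rw [if_neg h]
    apply Finsupp.mapDomain_of_notMem_range
    rintro ⟨x, hx⟩
    unfold θmap at hx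
    by_cases hx' : x = j₀
    · rw [if_pos hx'] at hx
      exact h (Sum.inr_injective hx).symm
    · rw [if_neg hx'] at hx
      exact absurd hx (by simp)

lemma mu_apply (ν : ι →₀ ℕ) (j : ι) :
    (ν.erase j₀ + Finsupp.single o (ν j₀)) j =
      (if j = j₀ then 0 else ν j) + (if o = j then ν j₀ else 0) := by
  rw [Finsupp.add_apply, Finsupp.erase_apply, Finsupp.single_apply]

variable [Fintype ι]

lemma sum_erase_if (S : Finset ι) (hmem : j₀ ∈ S) (ν : ι →₀ ℕ) :
    ∑ j ∈ S, (if j = j₀ then 0 else ν j) + ν j₀ = ∑ j ∈ S, ν j := by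
  have hA : ∑ j ∈ S, (if j = j₀ then 0 else ν j) = ∑ j ∈ S.erase j₀, ν j := by
    calc ∑ j ∈ S, (if j = j₀ then 0 else ν j)
        = (if j₀ = j₀ then 0 else ν j₀) + ∑ j ∈ S.erase j₀, (if j = j₀ then 0 else ν j) :=
          (Finset.add_sum_erase S (fun j => if j = j₀ then 0 else ν j) hmem).symm
      _ = ∑ j ∈ S.erase j₀, ν j := by
          rw [if_pos rfl, zero_add]
          exact Finset.sum_congr rfl fun j hj => if_neg (Finset.ne_of_mem_erase hj)
  have hB : ∑ j ∈ S, ν j = ν j₀ + ∑ j ∈ S.erase j₀, ν j :=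
    (Finset.add_sum_erase S (fun j => ν j) hmem).symm
  rw [hA, hB, add_comm]

lemma weight_mu (hj₀ : j₀ ≠ o) (ν : ι →₀ ℕ) :
    ∑ j ∈ Finset.univ.erase o, (ν.erase j₀ + Finsupp.single o (ν j₀)) j + ν j₀ =
      ∑ j ∈ Finset.univ.erase o, ν j := by
  have hmem : j₀ ∈ Finset.univ.erase o := Finset.mem_erase.mpr ⟨hj₀, Finset.mem_univ _⟩
  have h1 : ∀ j ∈ Finset.univ.erase o, (ν.erase j₀ + Finsupp.single o (ν j₀)) j =
      if j = j₀ then 0 else ν j := by
    intro j hj
    have hjo : o ≠ j := (Finset.ne_of_mem_erase hj).symm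
    rw [mu_apply, if_neg hjo, add_zero]
  rw [Finset.sum_congr rfl h1]
  exact sum_erase_if j₀ _ hmem ν

lemma Qf_star (hj₀ : j₀ ≠ o) (ν : ι →₀ ℕ) :
    Qf (ν.erase j₀ + Finsupp.single o (ν j₀)) (ν j₀) (Finsupp.mapDomain (θmap o j₀) ν) := by
  constructor
  · intro j
    rw [star_inl, star_inr, mu_apply]
    congr 1
    by_cases h : j = o
    · rw [if_pos h, if_pos h.symm]
    · rw [if_neg h, if_neg (fun h' => h h'.symm)]
  · simp only [star_inr]
    rw [Finset.sum_ite_eq' Finset.univ o (fun _ => ν j₀), if_pos (Finset.mem_univ _)]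

lemma weight_lt (hj₀ : j₀ ≠ o) (ν : ι →₀ ℕ) (ν' : ι ⊕ ι →₀ ℕ)
    (hQ : Qf (ν.erase j₀ + Finsupp.single o (ν j₀)) (ν j₀) ν')
    (hne : ν' ≠ Finsupp.mapDomain (θmap o j₀) ν) :
    ∑ x ∈ Finset.univ.erase (Sum.inl o), ν' x < ∑ j ∈ Finset.univ.erase o, ν j := by
  obtain ⟨hQ1, hQ2⟩ := hQ
  have e1 : ν' (Sum.inl o) + ∑ x ∈ Finset.univ.erase (Sum.inl o), ν' x = ∑ x, ν' x :=
    Finset.add_sum_erase Finset.univ (fun x => ν' x) (Finset.mem_univ _)
  have e2 : ∑ x, ν' x = ∑ j, ν' (Sum.inl j) + ∑ j, ν' (Sum.inr j) :=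
    Fintype.sum_sum_type (fun x => ν' x)
  have e3 : ∑ j, ν' (Sum.inl j) + ∑ j, ν' (Sum.inr j) =
      ∑ j, (ν.erase j₀ + Finsupp.single o (ν j₀)) j := by
    rw [← Finset.sum_add_distrib]
    exact Finset.sum_congr rfl fun j _ => hQ1 j
  have e4 : ∑ j, (ν.erase j₀ + Finsupp.single o (ν j₀)) j = ∑ j, ν j := by
    simp only [mu_apply]
    rw [Finset.sum_add_distrib, Finset.sum_ite_eq Finset.univ o (fun _ => ν j₀),
      if_pos (Finset.mem_univ _)]
    exact sum_erase_if j₀ Finset.univ (Finset.mem_univ _) ν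
  have e5 : ν o + ∑ j ∈ Finset.univ.erase o, ν j = ∑ j, ν j :=
    Finset.add_sum_erase Finset.univ (fun j => ν j) (Finset.mem_univ _)
  have e6 : ν' (Sum.inl o) + ν' (Sum.inr o) = ν o + ν j₀ := by
    rw [hQ1 o, mu_apply, if_neg (fun h => hj₀ h.symm), if_pos rfl]
  have e7 : ν' (Sum.inr o) ≤ ν j₀ := by
    rw [← hQ2]
    exact Finset.single_le_sum (f := fun j => ν' (Sum.inr j)) (fun j _ => Nat.zero_le _)
      (Finset.mem_univ o)
  by_cases hk : ν' (Sum.inr o) < ν j₀
  · omega
  · exfalso
    have hk' : ν' (Sum.inr o) = ν j₀ := le_antisymm e7 (not_lt.mp hk)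
    have hz : ∀ j, j ≠ o → ν' (Sum.inr j) = 0 := by
      have h1 : ν' (Sum.inr o) + ∑ j ∈ Finset.univ.erase o, ν' (Sum.inr j) =
          ∑ j, ν' (Sum.inr j) :=
        Finset.add_sum_erase Finset.univ (fun j => ν' (Sum.inr j)) (Finset.mem_univ _)
      have h2 : ∑ j ∈ Finset.univ.erase o, ν' (Sum.inr j) = 0 := by omega
      intro j hj
      exact (Finset.sum_eq_zero_iff.mp h2) j (Finset.mem_erase.mpr ⟨hj, Finset.mem_univ _⟩)
    apply hne
    ext x
    rcases x with j | j
    · rw [star_inl]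
      by_cases hjo : j = o
      · rw [hjo, if_neg (fun h => hj₀ h.symm)]
        omega
      · have h3 := hQ1 j
        rw [hz j hjo, add_zero, mu_apply, if_neg (show ¬ o = j from fun h => hjo h.symm),
          add_zero] at h3
        exact h3
    · rw [star_inr]
      by_cases hjo : j = o
      · rw [hjo, if_pos rfl]
        exact hk'
      · rw [if_neg hjo]
        exact hz j hjo

end Theta

/-- the symmetrised pure tensors of a family containing `1` lie in the subalgebra generated by
the elementary symmetric tensors -/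
theorem ssum_mem : ∀ (w : ℕ) (ι : Type) [Fintype ι] [DecidableEq ι] (b : ι → A) (o : ι),
    b o = 1 → ∀ ν : ι →₀ ℕ, ∑ j ∈ Finset.univ.erase o, ν j = w →
      ssum R n b ν ∈ Csub R A n := by
  intro w
  induction w using Nat.strong_induction_on with
  | _ w ih =>
    intro ι _ _ b o hbo ν hw
    classical
    by_cases h0 : ∀ j, j ≠ o → ν j = 0
    · exact ssum_mem_of_unit R n b o hbo ν h0
    push Not at h0
    obtain ⟨j₀, hj₀, hνj₀⟩ := h0
    have hkpos : 0 < ν j₀ := Nat.pos_of_ne_zero hνj₀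
    have hwμ := weight_mu o j₀ hj₀ ν
    have IH1 : ssum R n b (ν.erase j₀ + Finsupp.single o (ν j₀)) ∈ Csub R A n :=
      ih (∑ j ∈ Finset.univ.erase o, (ν.erase j₀ + Finsupp.single o (ν j₀)) j) (by omega)
        ι b o hbo _ rfl
    obtain ⟨𝒯, h𝒯⟩ : ∃ 𝒯 : Finset (ι ⊕ ι →₀ ℕ),
        𝒯 = insert (Finsupp.mapDomain (θmap o j₀) ν)
          (Finset.univ.image (fun c : Fin n → ι ⊕ ι => typ c)) := ⟨_, rfl⟩
    have hPF := sig_mul_ssum R n (b j₀) (ν j₀) b (ν.erase j₀ + Finsupp.single o (ν j₀))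
    rw [sum_group n (Qf (ν.erase j₀ + Finsupp.single o (ν j₀)) (ν j₀)) 𝒯 (fun c => by
      rw [h𝒯]
      exact Finset.mem_insert_of_mem (Finset.mem_image_of_mem _ (Finset.mem_univ c)))] at hPF
    have hνs𝒯 : Finsupp.mapDomain (θmap o j₀) ν ∈ 𝒯 := by
      rw [h𝒯]
      exact Finset.mem_insert_self _ _
    rw [← Finset.add_sum_erase 𝒯 _ hνs𝒯, if_pos (Qf_star o j₀ hj₀ ν)] at hPF
    have hspec : (∑ c : Fin n → ι ⊕ ι, if typ c = Finsupp.mapDomain (θmap o j₀) ν then
        PiTensorProduct.tprod R (fun i => Sum.elim b (fun j => b j₀ * b j) (c i)) else 0) =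
        ssum R n b ν := by
      refine ssum_transport R n (θmap o j₀) (θmap_injective o j₀) b
        (Sum.elim b (fun j => b j₀ * b j)) ?_ ν
      intro j
      unfold θmap
      by_cases h : j = j₀
      · rw [if_pos h, Sum.elim_inr, hbo, mul_one, h]
      · rw [if_neg h, Sum.elim_inl]
    rw [hspec] at hPF
    have hrest : ∑ ν' ∈ 𝒯.erase (Finsupp.mapDomain (θmap o j₀) ν),
        (if Qf (ν.erase j₀ + Finsupp.single o (ν j₀)) (ν j₀) ν' then
          ∑ c : Fin n → ι ⊕ ι, if typ c = ν' then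
            PiTensorProduct.tprod R (fun i => Sum.elim b (fun j => b j₀ * b j) (c i)) else 0
        else 0) ∈ Csub R A n := by
      refine Subalgebra.sum_mem _ fun ν' hν' => ?_
      split_ifs with hQ
      · have hne : ν' ≠ Finsupp.mapDomain (θmap o j₀) ν := Finset.ne_of_mem_erase hν'
        have hlt := weight_lt o j₀ hj₀ ν ν' hQ hne
        exact ih _ (by omega) (ι ⊕ ι) (Sum.elim b (fun j => b j₀ * b j)) (Sum.inl o) hbo ν' rfl
      · exact zero_mem _
    have hfin := eq_sub_of_add_eq hPF.symm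
    rw [hfin]
    exact Subalgebra.sub_mem _ (mul_mem (sig_mem_Csub R n _ _) IH1) hrest

end Groth.Agent.Lib.Helper6.SymGen
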