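import Mathlib
import Groth.Prelude.Def_SymTen
import Groth.Agent.Lib.Helper6.SymGen.SG3
import Groth.Agent.Lib.Helper6.ZC.GenG
import Groth.Agent.Lib.Helper6.ZC.GammaTS
import Groth.Agent.Lib.Helper6.ZC.FinFree

/-!
# The symmetric tensors of a flat algebra are generated by the elementary symmetric tensors
(helper6)

For flat `A`, `TS^n(A)` is the divided power algebra; the universal law factors, over polynomial
rings, through the subalgebra generated by the elementary symmetric tensors, because its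
coefficients are the symmetrised pure tensors.  The subalgebra criterion concludes.
-/

set_option autoImplicit false
set_option linter.unusedSectionVars false
set_option linter.unusedVariables false
set_option linter.unusedSimpArgs false
set_option linter.style.haveILetI false
set_option linter.overlappingInstances false
set_option maxHeartbeats 800000
set_option synthInstance.maxHeartbeats 400000

universe u
open scoped TensorProduct
open Groth.Agent.Lib.Helper6.ZC

noncomputable section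

namespace Groth.Agent.Lib.Helper6.SymGen

variable (R : Type u) [CommRing R] (A : Type u) [CommRing A] [Algebra R A] (n : ℕ)

theorem TS_eq_Csub [Module.Flat R A] : SymTen.TS R A n = Csub R A n := by
  apply le_antisymm _ (Csub_le_TS R n)
  obtain ⟨τ, hτ, hγ⟩ := exists_τ_isGammaD (A := R) (B := A) n (Or.inl inferInstance)
  obtain ⟨C₀, hC₀⟩ : ∃ C₀ : Subalgebra R ↥(SymTen.TS R A n),
      C₀ = (Csub R A n).comap (SymTen.TS R A n).val := ⟨_, rfl⟩
  have hfac : FactorsOnPoly τ C₀ := by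
    intro m p
    obtain ⟨N, s, b, rfl⟩ := exists_fin_sum_tmul' p
    obtain ⟨s', hs'⟩ : ∃ s' : Fin (N + 1) → MvPolynomial (Fin m) R, s' = Fin.cons 0 s := ⟨_, rfl⟩
    obtain ⟨b', hb'⟩ : ∃ b' : Fin (N + 1) → A, b' = Fin.cons 1 b := ⟨_, rfl⟩
    have hp : ∑ i, s i ⊗ₜ[R] b i = ∑ i, s' i ⊗ₜ[R] b' i := by
      rw [Fin.sum_univ_succ, hs', hb']
      simp only [Fin.cons_zero, Fin.cons_succ, TensorProduct.zero_tmul, zero_add]
    rw [hp]
    classical
    obtain ⟨𝒯, h𝒯⟩ : ∃ 𝒯 : Finset (Fin (N + 1) →₀ ℕ),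
        𝒯 = Finset.univ.image (fun c : Fin n → Fin (N + 1) => typ c) := ⟨_, rfl⟩
    have hmemC : ∀ ν : Fin (N + 1) →₀ ℕ, ssum R n b' ν ∈ Csub R A n := fun ν =>
      ssum_mem R n _ (Fin (N + 1)) b' 0 (by rw [hb']; rfl) ν rfl
    have hmemC₀ : ∀ ν : Fin (N + 1) →₀ ℕ,
        (⟨ssum R n b' ν, ssum_mem_TS R n b' ν⟩ : ↥(SymTen.TS R A n)) ∈ C₀ := by
      intro ν
      rw [hC₀]
      exact hmemC ν
    obtain ⟨z, hz⟩ : ∃ z : MvPolynomial (Fin m) R ⊗[R] ↥C₀,
        z = ∑ ν ∈ 𝒯, (ν.prod fun i k => s' i ^ k) ⊗ₜ[R]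
          (⟨⟨ssum R n b' ν, ssum_mem_TS R n b' ν⟩, hmemC₀ ν⟩ : ↥C₀) := ⟨_, rfl⟩
    refine ⟨z, ?_⟩
    apply lTensor_val_injective_of_flat (A := R) (B := A) n (MvPolynomial (Fin m) R)
    rw [hτ, hz, map_sum, map_sum]
    simp only [LinearMap.lTensor_tmul]
    rw [← Finset.sum_fiberwise_of_maps_to (s := Finset.univ) (t := 𝒯)
      (g := fun c : Fin n → Fin (N + 1) => typ c) (fun c _ => by
        rw [h𝒯]
        exact Finset.mem_image_of_mem _ (Finset.mem_univ c))]
    refine Finset.sum_congr rfl fun ν _ => ?_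
    show (ν.prod fun i k => s' i ^ k) ⊗ₜ[R] ssum R n b' ν = _
    rw [ssum, ← Finset.sum_filter, TensorProduct.tmul_sum]
    refine Finset.sum_congr rfl fun c hc => ?_
    rw [Finset.mem_filter] at hc
    rw [prod_eq_prod_typ s' c, hc.2]
  have htop := eq_top_of_factorsOnPoly hfac hγ
  intro t ht
  have h1 : (⟨t, ht⟩ : ↥(SymTen.TS R A n)) ∈ C₀ := by
    rw [htop]
    exact Algebra.mem_top
  rw [hC₀] at h1
  exact h1

end Groth.Agent.Lib.Helper6.SymGen
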